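import Cfsg.Agent.Mrg.Omega.NOThreeL.VF.Nat


/-!
# NO-3L, THEOREM VF (#16966, helper597), steps (6) - (8) (helper924; (8') helper686 #17040)

* `fus` : `C_{V_P}(O²(P)) = 1`, `V_P` an FF-module for `P`: for `1 ≠ z ∈ Ω₁(Z(S))` and every `m ∈ N_G(V_P)` the
  element `z^m` is conjugate to `z` in `P`;
* `false_of_eq` : in NO-3L with `C_Z(P) = 1` for all `P ∈ P*(S)`: no `P ∈ P*(S)` with `V_P` an FF-module and
  `V_P` normalised by all members of `P*(S)`.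
-/

set_option autoImplicit false

namespace Cfsg.Agent.Omega.NOThreeL.VF

open Subgroup Cfsg Cfsg.Agent.ZN Cfsg.Agent.Omega.MinPar Cfsg.Agent.Omega.Frame Cfsg.Agent.Omega.FrameNOFF
open Cfsg.Agent.Omega.NOThreeL.Basic
open Cfsg.Agent.Omega.FFThm (OffM ElemM)
open Cfsg.Agent.MinSimple.VModule (mem_zc zc_le le_normalizer_o2 o2_isPGroup)

universe u

variable {G : Type u} [Group G] [Finite G] {S : Sylow 2 G} {P : Subgroup G}

/-- **(6)** -/
theorem fus (hFF : FFThm.StmtM.{u}) (hc : IsCharacteristicTwoType G) (hP : IsPar (S : Subgroup G) P)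
    (hcv : FrameFF.cv (S : Subgroup G) P = ⊥) (hoff : ∃ A : Subgroup G, A ≤ (S : Subgroup G) ∧
      OffM (zl (S : Subgroup G) P) A) {z : G} (hz : z ∈ zc (S : Subgroup G)) (hz1 : z ≠ 1) {m : G}
    (hm : m ∈ normalizer (zl (S : Subgroup G) P : Set G)) : ∃ l ∈ P, m * z * m⁻¹ = l * z * l⁻¹ := by
  obtain ⟨A, hA, hoff⟩ := hoff
  have hamb := Half.amb_of_loc hc S hP.isLoc
  have hsyl : ZN.ChoiceSit.Syl (S : Subgroup G) P :=
    ⟨hP.le, S.isPGroup', fun Q _ hQ hSQ => S.is_maximal' hQ hSQ⟩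
  obtain ⟨-, hC⟩ := hFF G (S : Subgroup G) P hsyl hP.toIsMinPar (hP.isLoc.char2 S hc) ⟨A, hA.trans hP.le, hoff⟩
  rcases hC with ⟨F, _, _, _, k, hk, ⟨M⟩⟩ | ⟨k, n, hk, hn, ⟨M⟩⟩
  · rw [hcv] at M
    exact Nat.fus M hamb hz hz1 hm
  · rw [hcv] at M
    exact Sym.fus M hn hamb hz hz1 hm

/-- **(6) - (8)** -/
theorem false_of_eq (hFF : FFThm.StmtM.{u}) (h : Ctx G) (hF : Full (S : Subgroup G))
    (D : DataZ (S : Subgroup G)) (hP : IsParS (S : Subgroup G) P)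
    (hoff : ∃ A : Subgroup G, A ≤ (S : Subgroup G) ∧ OffM (zl (S : Subgroup G) P) A)
    (hV : ∀ R, IsParS (S : Subgroup G) R → R ≤ normalizer (zl (S : Subgroup G) P : Set G)) : False := by
  obtain ⟨z, hz, hz1⟩ : ∃ z ∈ zc (S : Subgroup G), z ≠ 1 := by
    by_contra hcon
    push Not at hcon
    exact hP.not_zc (by
      have h1 : zc (S : Subgroup G) = ⊥ := le_bot_iff.1 fun x hx => mem_bot.2 (hcon x hx)
      rw [h1, normalizer_eq_top_iff.2 inferInstance]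
      exact le_top)
  exact false_of_fus h hF D hP hz hz1 fun R hR m hm =>
    fus hFF h.char2 hP.toIsPar (D.cv_eq h.char2 hP) hoff hz hz1 (hV R hR hm)

end Cfsg.Agent.Omega.NOThreeL.VF
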