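import Cfsg.Agent.Mrg.Omega.VP
import Cfsg.Agent.Mrg.Omega.FFMutual
import Cfsg.Agent.Mrg.Omega.FrameI
import Cfsg.Agent.Lib.ProductSet


/-!
# THEOREM VF, (1) (#16966, helper597)

`M ∈ L(S)` is generated by the members of `P*(S)` in `M`, `V = zl S M`.

* `le_o2_of_cj`, `gallery` : a 2-subgroup `A` of `M` with `[V, A] ≠ 1` is `M`-conjugate to a subgroup of `S` which
  does not centralise `V_P` for some `P ∈ P*(S)`, `P ≤ M`;
* `exists_two` : a subgroup `A ≤ M` which acts on `V` as an elementary abelian 2-group may be replaced by a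
  2-subgroup;
* `one` : if `M` has an offender on `V`, then no subgroup of `M` over-offends on `V`, and there are `P` and an
  offender `A ≤ S` on `V` and on `V_P` with `C_A(V_P) = C_A(V)`; the conclusion of the FF theorem holds for `P`.
-/

set_option autoImplicit false
set_option linter.unusedSectionVars false

namespace Cfsg.Agent.Omega.NOThreeL.VF

open Subgroup Cfsg Cfsg.Agent.ZN Cfsg.Agent.ZN.ChoiceBase Cfsg.Agent.ZN.ChoiceSit Cfsg.Agent.Omega.MinPar
open Cfsg.Agent.Omega.FFThm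
open Cfsg.Agent.MinSimple.VModule (zl_le le_normalizer_zl zc_le_zl mem_zc le_o2 o2_isPGroup le_normalizer_o2)

universe u

variable {G : Type u} [Group G] [Finite G]

theorem card_mul_card_le {H K L : Subgroup G} (hH : H ≤ L) (hK : K ≤ L) :
    Nat.card H * Nat.card K ≤ Nat.card L * Nat.card (H ⊓ K : Subgroup G) := by
  rw [← Lib.ProductSet.card_mul_card_inf H K]
  refine Nat.mul_le_mul_right _ ?_
  refine Nat.card_mono (Set.toFinite _) ?_
  rintro _ ⟨h, hh, k, hk, rfl⟩
  exact L.mul_mem (hH hh) (hK hk)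

/-! ### Galleries -/

/-- A subgroup of all `S^m`, `m ∈ M`, lies in `O₂(M)`. -/
theorem le_o2_of_cj (S : Sylow 2 G) {M A : Subgroup G} (hS : (S : Subgroup G) ≤ M)
    (h : ∀ m ∈ M, cj m⁻¹ A ≤ (S : Subgroup G)) : A ≤ o2 M := by
  let U : Subgroup G :=
    { carrier := {x | ∀ m ∈ M, m⁻¹ * x * m ∈ (S : Subgroup G)}
      mul_mem' := by
        intro a b ha hb m hm
        have e : m⁻¹ * (a * b) * m = (m⁻¹ * a * m) * (m⁻¹ * b * m) := by group
        rw [e]
        exact mul_mem (ha m hm) (hb m hm)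
      one_mem' := by
        intro m _
        have e : m⁻¹ * 1 * m = 1 := by group
        rw [e]
        exact one_mem _
      inv_mem' := by
        intro a ha m hm
        have e : m⁻¹ * a⁻¹ * m = (m⁻¹ * a * m)⁻¹ := by group
        rw [e]
        exact inv_mem (ha m hm) }
  have mU : ∀ x, x ∈ U ↔ ∀ m ∈ M, m⁻¹ * x * m ∈ (S : Subgroup G) := fun x => Iff.rfl
  have hUS : U ≤ (S : Subgroup G) := by
    intro x hx
    have h1 := (mU x).1 hx 1 (one_mem _)
    simpa using h1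
  have hn : M ≤ normalizer (U : Set G) := by
    intro g hg
    rw [mem_normalizer_iff]
    intro x
    constructor
    · intro hx m hm
      have h1 := (mU x).1 hx (g⁻¹ * m) (mul_mem (inv_mem hg) hm)
      have e : (g⁻¹ * m)⁻¹ * x * (g⁻¹ * m) = m⁻¹ * (g * x * g⁻¹) * m := by group
      rwa [e] at h1
    · intro hx m hm
      have h1 := (mU _).1 hx (g * m) (mul_mem hg hm)
      have e : (g * m)⁻¹ * (g * x * g⁻¹) * (g * m) = m⁻¹ * x * m := by group
      rwa [e] at h1
  have hAU : A ≤ U := by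
    intro a ha m hm
    refine h m hm ?_
    rw [mem_cj]
    have e : m⁻¹⁻¹ * (m⁻¹ * a * m) * m⁻¹ = a := by group
    rwa [e]
  exact hAU.trans (le_o2 (hUS.trans hS) (S.isPGroup'.to_le hUS) hn)

/-- A 2-subgroup `A ≤ M` moving `V = ⟨Z^M⟩` moves some line `V_P`, `P ∈ P*(T)`, `A ≤ T ∈ Syl₂(M)`. -/
theorem gallery (hc : IsCharacteristicTwoType G) (S : Sylow 2 G) {M : Subgroup G}
    (hM : IsLoc (S : Subgroup G) M) (hgen : M ≤ sSup {P | IsParS (S : Subgroup G) P ∧ P ≤ M})
    {A : Subgroup G} (hA : A ≤ M) (hA2 : IsPGroup 2 A)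
    (hne : ¬ A ≤ centralizer (zl (S : Subgroup G) M : Set G)) :
    ∃ m ∈ M, ∃ P, IsParS (S : Subgroup G) P ∧ P ≤ M ∧ cj m A ≤ (S : Subgroup G) ∧
      ¬ cj m A ≤ centralizer (zl (S : Subgroup G) P : Set G) := by
  by_contra hcon
  push Not at hcon
  apply hne
  -- all conjugates of `A` lie in `S`
  let Y : Subgroup G :=
    { carrier := {g | ∀ m, cj m A ≤ (S : Subgroup G) ∧ m ∈ M ↔ cj (g * m) A ≤ (S : Subgroup G) ∧ g * m ∈ M}
      mul_mem' := by
        intro a b ha hb m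
        have h1 := hb m
        have h2 := ha (b * m)
        rw [← mul_assoc] at h2
        exact h1.trans h2
      one_mem' := by intro m; rw [one_mul]
      inv_mem' := by
        intro a ha m
        have h1 := ha (a⁻¹ * m)
        have e : a * (a⁻¹ * m) = m := by group
        rw [e] at h1
        exact h1.symm }
  have key : ∀ P, IsParS (S : Subgroup G) P → P ≤ M → ∀ p ∈ P, ∀ m, cj m A ≤ (S : Subgroup G) → m ∈ M →
      cj (p * m) A ≤ (S : Subgroup G) ∧ p * m ∈ M := by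
    intro P hP hPM p hp m hm hmM
    refine ⟨?_, mul_mem (hPM hp) hmM⟩
    have h1 := hcon m hmM P hP hPM hm
    have h2 : cj m A ≤ o2 P := by
      rw [← hP.inf_centralizer S hc]
      exact le_inf hm h1
    have h3 := h2.trans (FrameNOFF.o2_le_conj S hP.toIsPar (P.inv_mem hp))
    have h4 := cj_mono p h3
    rw [cj_cj] at h4
    refine h4.trans ?_
    intro x hx
    rw [mem_cj] at hx
    change p⁻¹ * x * p ∈ cj p⁻¹ (S : Subgroup G) at hx
    rw [mem_cj] at hx
    have e : p⁻¹⁻¹ * (p⁻¹ * x * p) * p⁻¹ = x := by group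
    rwa [e] at hx
  have hY : ∀ P, IsParS (S : Subgroup G) P → P ≤ M → P ≤ Y := by
    intro P hP hPM p hp m
    constructor
    · rintro ⟨h1, h2⟩
      exact key P hP hPM p hp m h1 h2
    · rintro ⟨h1, h2⟩
      have h3 := key P hP hPM p⁻¹ (inv_mem hp) (p * m) h1 h2
      have e : p⁻¹ * (p * m) = m := by group
      rwa [e] at h3
  have hMY : M ≤ Y := hgen.trans (sSup_le fun P hP => hY P hP.1 hP.2)
  obtain ⟨m₀, hm₀, hA₀⟩ := exists_conj_le S hM.le hA2 hA
  have hall : ∀ m ∈ M, cj m⁻¹ A ≤ (S : Subgroup G) := by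
    intro m hm
    have h1 := (hMY (mul_mem (inv_mem hm) (inv_mem hm₀)) : _ ∈ Y) m₀
    have h2 := (h1.1 ⟨hA₀, hm₀⟩).1
    have e : m⁻¹ * m₀⁻¹ * m₀ = m⁻¹ := by group
    rwa [e] at h2
  have h1 := le_o2_of_cj S hM.le hall
  have h2 := hM.zl_le S hc
  intro a ha
  rw [mem_centralizer_iff]
  intro v hv
  exact ((Cfsg.Agent.MinSimple.VModule.mem_zc.1 (h2 hv)).2.1 a (h1 ha)).symm

/-! ### 2-subgroups -/

omit [Finite G] in
theorem elemM_mono {V A B : Subgroup G} (h : ElemM V A) (hB : B ≤ A) : ElemM V B :=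
  ⟨fun a ha => h.sq a (hB ha), fun a ha b hb => h.comm a (hB ha) b (hB hb)⟩

/-- Replace `A` by a 2-subgroup. -/
theorem exists_two {V A : Subgroup G} (hAV : A ≤ normalizer (V : Set G)) (h : ElemM V A) :
    ∃ B ≤ A, IsPGroup 2 B ∧ ∀ a ∈ A, ∃ b ∈ B, b⁻¹ * a ∈ centralizer (V : Set G) := by
  have h2 : Fact (Nat.Prime 2) := ⟨Nat.prime_two⟩
  obtain ⟨Q⟩ : Nonempty (Sylow 2 A) := inferInstance
  set N : Subgroup A := (centralizer (V : Set G)).subgroupOf A with hN
  have hNn : N.Normal := by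
    refine ⟨fun n hn g => ?_⟩
    rw [hN, mem_subgroupOf] at hn ⊢
    rw [mem_centralizer_iff] at hn ⊢
    intro v hv
    have h3 := hn (g.1⁻¹ * v * g.1) ((mem_normalizer_iff''.1 (hAV g.2) v).1 hv)
    push_cast
    have e1 : v * (g.1 * n.1 * g.1⁻¹) = g.1 * (g.1⁻¹ * v * g.1 * n.1) * g.1⁻¹ := by group
    rw [e1, h3]
    group
  have hp : IsPGroup 2 (A ⧸ N) := by
    intro x
    refine ⟨1, ?_⟩
    obtain ⟨a, rfl⟩ := QuotientGroup.mk_surjective x
    rw [← QuotientGroup.mk_pow, QuotientGroup.eq_one_iff, hN, mem_subgroupOf]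
    have := h.sq a a.2
    simpa using this
  obtain ⟨n, hn⟩ := hp.exists_card_eq
  have h3 : ((Q : Subgroup A) ⊔ N).index ∣ 2 ^ n := by
    have h4 := Subgroup.index_dvd_of_le (le_sup_right : N ≤ (Q : Subgroup A) ⊔ N)
    rwa [Subgroup.index_eq_card N, hn] at h4
  have h5 : ((Q : Subgroup A) ⊔ N).index ∣ (Q : Subgroup A).index := Subgroup.index_dvd_of_le le_sup_left
  have h6 : ¬ 2 ∣ (Q : Subgroup A).index := Q.not_dvd_index
  have h7 : ((Q : Subgroup A) ⊔ N).index = 1 := by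
    obtain ⟨j, -, hj⟩ := (Nat.dvd_prime_pow Nat.prime_two).1 h3
    rcases Nat.eq_zero_or_pos j with h8 | h8
    · rw [hj, h8, pow_zero]
    · exact absurd ((dvd_pow_self 2 h8.ne').trans (hj ▸ h5)) h6
  rw [Subgroup.index_eq_one] at h7
  refine ⟨(Q : Subgroup A).map A.subtype, ?_, Q.isPGroup'.map _, fun a ha => ?_⟩
  · rintro _ ⟨x, -, rfl⟩
    exact x.2
  · have h8 : (⟨a, ha⟩ : A) ∈ (Q : Subgroup A) ⊔ N := h7 ▸ mem_top _
    obtain ⟨q, hq, m, hm, hqm⟩ := Subgroup.mem_sup_of_normal_right.1 h8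
    refine ⟨q.1, ⟨q, hq, rfl⟩, ?_⟩
    have h9 : q.1 * m.1 = a := congrArg Subtype.val hqm
    have e : q.1⁻¹ * a = m.1 := by rw [← h9]; group
    rw [e]
    exact mem_subgroupOf.1 hm

/-- `f(A) = |A : C_A(V)| |C_V(A)|` -/
noncomputable def fM (V A : Subgroup G) : ℕ :=
  (centralizer (V : Set G)).relIndex A * Nat.card ↥(V ⊓ centralizer (A : Set G))

theorem card_eq_rel (V A : Subgroup G) :
    Nat.card A = (centralizer (V : Set G)).relIndex A * Nat.card ↥(A ⊓ centralizer (V : Set G)) := by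
  have e := relIndex_inf_mul_relIndex (⊥ : Subgroup G) (centralizer (V : Set G)) A
  rw [relIndex_bot_left, bot_inf_eq, relIndex_bot_left, mul_comm, inf_comm] at e
  exact e.symm

theorem fM_mul (V A : Subgroup G) :
    fM V A * Nat.card ↥(A ⊓ centralizer (V : Set G)) = Nat.card A * Nat.card ↥(V ⊓ centralizer (A : Set G)) := by
  rw [card_eq_rel V A, fM]
  ring

theorem fM_le_iff {V A : Subgroup G} : fM V A ≤ Nat.card V ↔
    Nat.card A * Nat.card ↥(V ⊓ centralizer (A : Set G)) ≤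
      Nat.card V * Nat.card ↥(A ⊓ centralizer (V : Set G)) := by
  rw [← fM_mul]
  have h : 0 < Nat.card ↥(A ⊓ centralizer (V : Set G)) := Nat.card_pos
  exact (Nat.mul_le_mul_right_iff h).symm

theorem le_fM_iff {V A : Subgroup G} : Nat.card V ≤ fM V A ↔
    Nat.card V * Nat.card ↥(A ⊓ centralizer (V : Set G)) ≤
      Nat.card A * Nat.card ↥(V ⊓ centralizer (A : Set G)) := by
  rw [← fM_mul V A]
  have h : 0 < Nat.card ↥(A ⊓ centralizer (V : Set G)) := Nat.card_pos
  exact (Nat.mul_le_mul_right_iff h).symm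

theorem fM_of_le {V A : Subgroup G} (h : A ≤ centralizer (V : Set G)) : fM V A = Nat.card V := by
  have h1 : V ⊓ centralizer (A : Set G) = V := inf_eq_left.2 (le_centralizer_iff.1 h)
  rw [fM, relIndex_eq_one.2 h, one_mul, h1]

theorem fM_cj {V A : Subgroup G} {m : G} (hm : m ∈ normalizer (V : Set G)) :
    fM V (cj m A) = fM V A ∧
      (centralizer (V : Set G)).relIndex (cj m A) = (centralizer (V : Set G)).relIndex A := by
  have h3 : cj m V = V := cj_eq_of_mem_normalizer hm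
  have h4 : V ⊓ centralizer (cj m A : Set G) = cj m (V ⊓ centralizer (A : Set G)) := by
    rw [cj_inf, cj_centralizer, h3]
  have h5 : cj m A ⊓ centralizer (V : Set G) = cj m (A ⊓ centralizer (V : Set G)) := by
    rw [cj_inf, cj_centralizer, h3]
  have h6 : (centralizer (V : Set G)).relIndex (cj m A) = (centralizer (V : Set G)).relIndex A := by
    have e1 := card_eq_rel V (cj m A)
    have e2 := card_eq_rel V A
    rw [h5, card_cj, card_cj, e2] at e1
    exact (Nat.eq_of_mul_eq_mul_right Nat.card_pos e1).symm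
  refine ⟨?_, h6⟩
  rw [fM, fM, h6, h4, card_cj]

/-- Equality of images gives equality of `f`. -/
theorem fM_congr {V A B : Subgroup G} (hB : B ≤ A)
    (h : ∀ a ∈ A, ∃ b ∈ B, b⁻¹ * a ∈ centralizer (V : Set G)) : fM V B = fM V A := by
  have h1 : V ⊓ centralizer (B : Set G) = V ⊓ centralizer (A : Set G) := by
    apply le_antisymm
    · intro v hv
      rw [mem_inf] at hv ⊢
      refine ⟨hv.1, mem_centralizer_iff.2 fun a ha => ?_⟩
      obtain ⟨b, hb, hab⟩ := h a ha
      have h2 := mem_centralizer_iff.1 hv.2 b hb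
      have h3 := mem_centralizer_iff.1 hab v hv.1
      calc a * v = b * (b⁻¹ * a * v) := by group
        _ = b * (v * (b⁻¹ * a)) := by rw [h3]
        _ = (b * v) * (b⁻¹ * a) := by group
        _ = (v * b) * (b⁻¹ * a) := by rw [h2]
        _ = v * a := by group
    · exact inf_le_inf le_rfl (centralizer_le hB)
  have h2 : (centralizer (V : Set G)).relIndex B = (centralizer (V : Set G)).relIndex A := by
    have h3 := card_mul_card_le (H := B) (K := A ⊓ centralizer (V : Set G)) (L := A) hB inf_le_left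
    have e1 := card_eq_rel V A
    have e2 := card_eq_rel V B
    have e3 : B ⊓ (A ⊓ centralizer (V : Set G)) = B ⊓ centralizer (V : Set G) := by
      rw [← inf_assoc, inf_eq_left.2 hB]
    -- `|A| |B ∩ C| = |B| |A ∩ C|`
    have h4 : Nat.card A * Nat.card ↥(B ⊓ centralizer (V : Set G)) =
        Nat.card B * Nat.card ↥(A ⊓ centralizer (V : Set G)) := by
      have h5 := Lib.ProductSet.card_mul_card_inf B (A ⊓ centralizer (V : Set G))
      rw [e3] at h5
      rw [← h5]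
      congr 1
      refine Nat.card_congr (Equiv.setCongr ?_)
      ext x
      constructor
      · intro hx
        obtain ⟨b, hb, hab⟩ := h x hx
        exact ⟨b, hb, b⁻¹ * x, mem_inf.2 ⟨A.mul_mem (A.inv_mem (hB hb)) hx, hab⟩, by simp⟩
      · rintro ⟨b, hb, c, hc, rfl⟩
        exact mul_mem (hB hb) (mem_inf.1 hc).1
    rw [e1, e2] at h4
    have h6 : 0 < Nat.card ↥(A ⊓ centralizer (V : Set G)) := Nat.card_pos
    have h7 : 0 < Nat.card ↥(B ⊓ centralizer (V : Set G)) := Nat.card_pos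
    have h8 : (Nat.card ↥(A ⊓ centralizer (V : Set G)) * Nat.card ↥(B ⊓ centralizer (V : Set G))) *
        (centralizer (V : Set G)).relIndex A =
        (Nat.card ↥(A ⊓ centralizer (V : Set G)) * Nat.card ↥(B ⊓ centralizer (V : Set G))) *
        (centralizer (V : Set G)).relIndex B := by linarith
    exact (Nat.eq_of_mul_eq_mul_left (Nat.mul_pos h6 h7) h8).symm
  rw [fM, fM, h1, h2]

/-! ### (1) -/

theorem elemM_cj {V A : Subgroup G} {m : G} (hm : m ∈ normalizer (V : Set G)) (h : ElemM V A) :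
    ElemM V (cj m A) := by
  have h3 : cj m V = V := cj_eq_of_mem_normalizer hm
  have h4 : ∀ x, m⁻¹ * x * m ∈ centralizer (V : Set G) → x ∈ centralizer (V : Set G) := by
    intro x hx
    have h5 : x ∈ cj m (centralizer (V : Set G)) := by rwa [mem_cj]
    rwa [cj_centralizer, h3] at h5
  refine ⟨fun a ha => h4 _ ?_, fun a ha b hb => h4 _ ?_⟩
  · rw [mem_cj] at ha
    have e : m⁻¹ * a ^ 2 * m = (m⁻¹ * a * m) ^ 2 := by rw [sq, sq]; group
    rw [e]
    exact h.sq _ ha
  · rw [mem_cj] at ha hb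
    have e : m⁻¹ * (a * b * a⁻¹ * b⁻¹) * m =
        (m⁻¹ * a * m) * (m⁻¹ * b * m) * (m⁻¹ * a * m)⁻¹ * (m⁻¹ * b * m)⁻¹ := by group
    rw [e]
    exact h.comm _ ha _ hb

/-- The core of (1): `B ≤ S`, `W = V_P ≤ V`, `B₁ = C_B(W)`; `f(B) ≤ f(B₁)`. -/
theorem fM_le {V W B : Subgroup G} (hWV : W ≤ V)
    (hno : Nat.card B * Nat.card ↥(W ⊓ centralizer (B : Set G)) ≤
      Nat.card W * Nat.card ↥(B ⊓ centralizer (W : Set G))) :
    fM V B ≤ fM V (B ⊓ centralizer (W : Set G)) := by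
  set B₁ : Subgroup G := B ⊓ centralizer (W : Set G) with hB₁
  have h1 : W ≤ V ⊓ centralizer (B₁ : Set G) :=
    le_inf hWV (le_centralizer_iff.1 inf_le_right)
  have h2 : V ⊓ centralizer (B : Set G) ≤ V ⊓ centralizer (B₁ : Set G) :=
    inf_le_inf le_rfl (centralizer_le inf_le_left)
  have h3 := card_mul_card_le h1 h2
  have e3 : W ⊓ (V ⊓ centralizer (B : Set G)) = W ⊓ centralizer (B : Set G) := by
    rw [← inf_assoc, inf_eq_left.2 hWV]
  rw [e3] at h3
  have e4 : B₁ ⊓ centralizer (V : Set G) = B ⊓ centralizer (V : Set G) := by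
    rw [hB₁, inf_assoc, inf_eq_right.2 (centralizer_le (s := (W : Set G)) hWV)]
  have p1 : 0 < Nat.card ↥(W ⊓ centralizer (B : Set G)) := Nat.card_pos
  have p2 : 0 < Nat.card W := Nat.card_pos
  have p3 : 0 < Nat.card ↥(B ⊓ centralizer (V : Set G)) := Nat.card_pos
  -- `|B| |C_V(B)| ≤ |B₁| |C_V(B₁)|`
  have h5 : Nat.card B * Nat.card ↥(V ⊓ centralizer (B : Set G)) ≤
      Nat.card B₁ * Nat.card ↥(V ⊓ centralizer (B₁ : Set G)) := by
    have h6 : (Nat.card W * Nat.card ↥(W ⊓ centralizer (B : Set G))) *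
        (Nat.card B * Nat.card ↥(V ⊓ centralizer (B : Set G))) ≤
        (Nat.card W * Nat.card ↥(W ⊓ centralizer (B : Set G))) *
        (Nat.card B₁ * Nat.card ↥(V ⊓ centralizer (B₁ : Set G))) := by
      calc _ = (Nat.card B * Nat.card ↥(W ⊓ centralizer (B : Set G))) *
          (Nat.card W * Nat.card ↥(V ⊓ centralizer (B : Set G))) := by ring
        _ ≤ (Nat.card W * Nat.card B₁) *
          (Nat.card ↥(V ⊓ centralizer (B₁ : Set G)) * Nat.card ↥(W ⊓ centralizer (B : Set G))) :=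
            Nat.mul_le_mul hno h3
        _ = _ := by ring
    exact Nat.le_of_mul_le_mul_left h6 (Nat.mul_pos p2 p1)
  rw [← fM_mul V B, ← fM_mul V B₁, e4] at h5
  exact Nat.le_of_mul_le_mul_right h5 p3

/-- **(1)** -/
theorem one (hFF : StmtM.{u}) (hc : IsCharacteristicTwoType G) (S : Sylow 2 G) {M : Subgroup G}
    (hM : IsLoc (S : Subgroup G) M) (hgen : M ≤ sSup {P | IsParS (S : Subgroup G) P ∧ P ≤ M})
    (hoff : ∃ A ≤ M, OffM (zl (S : Subgroup G) M) A) :
    NoOverM (zl (S : Subgroup G) M) M ∧ ∃ P, IsParS (S : Subgroup G) P ∧ P ≤ M ∧ ∃ A ≤ (S : Subgroup G),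
      OffM (zl (S : Subgroup G) M) A ∧ OffM (zl (S : Subgroup G) P) A ∧
      A ⊓ centralizer (zl (S : Subgroup G) P : Set G) ≤ centralizer (zl (S : Subgroup G) M : Set G) ∧
      ConclM (S : Subgroup G) P := by
  classical
  set V : Subgroup G := zl (S : Subgroup G) M with hVd
  have hMV : M ≤ normalizer (V : Set G) := le_normalizer_zl _ _
  -- the class
  let 𝒞 : Set (Subgroup G) := {B | B ≤ M ∧ IsPGroup 2 B ∧ ElemM V B ∧ ¬ B ≤ centralizer (V : Set G)}
  -- replacement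
  have hrep : ∀ A ≤ M, ElemM V A → ¬ A ≤ centralizer (V : Set G) → ∃ B ∈ 𝒞, fM V B = fM V A := by
    intro A hA hE hne
    obtain ⟨B, hB, hB2, h⟩ := exists_two (hA.trans hMV) hE
    refine ⟨B, ⟨hB.trans hA, hB2, elemM_mono hE hB, fun h1 => hne fun a ha => ?_⟩, fM_congr hB h⟩
    obtain ⟨b, hb, hab⟩ := h a ha
    have h2 := mul_mem (h1 hb) hab
    have e : b * (b⁻¹ * a) = a := by group
    rwa [e] at h2
  obtain ⟨A₀, hA₀M, hA₀⟩ := hoff
  obtain ⟨B₀, hB₀, hfB₀⟩ := hrep A₀ hA₀M hA₀.toElemM hA₀.ne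
  have hVf₀ : Nat.card V ≤ fM V B₀ := by
    rw [hfB₀]
    exact le_fM_iff.2 hA₀.le
  obtain ⟨B₁, hB₁, hmax⟩ := Set.exists_max_image 𝒞 (fM V) (Set.toFinite _) ⟨B₀, hB₀⟩
  obtain ⟨B, ⟨hB, hBf⟩, hmin⟩ := Set.exists_min_image {B | B ∈ 𝒞 ∧ fM V B = fM V B₁}
    (fun B => (centralizer (V : Set G)).relIndex B) (Set.toFinite _) ⟨B₁, hB₁, rfl⟩
  -- move it into `S`
  obtain ⟨m, hm, P, hP, hPM, hmS, hmP⟩ := gallery hc S hM hgen hB.1 hB.2.1 hB.2.2.2
  have hmV := hMV hm
  have hcj := fM_cj (A := B) hmV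
  set A : Subgroup G := cj m B with hAd
  have hAM : A ≤ M := hmS.trans hM.le
  have hAE : ElemM V A := elemM_cj hmV hB.2.2.1
  have hWV : zl (S : Subgroup G) P ≤ V := zl_le (Cfsg.Agent.MinSimple.VModule.zc_le_zl _ _) (hPM.trans hMV)
  set W : Subgroup G := zl (S : Subgroup G) P with hWd
  have hCVW : centralizer (V : Set G) ≤ centralizer (W : Set G) := centralizer_le hWV
  have hAne : ¬ A ≤ centralizer (V : Set G) := fun h => hmP (h.trans hCVW)
  have hAW : ElemM W A := ⟨fun a ha => hCVW (hAE.sq a ha), fun a ha b hb => hCVW (hAE.comm a ha b hb)⟩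
  have hfA : fM V A = fM V B₁ := hcj.1.trans hBf
  have hPFF : (∃ A ≤ P, OffM W A) → NoOverM W P ∧ ConclM (S : Subgroup G) P := fun h =>
    hFF G (S : Subgroup G) P (syl_of_sylow S hP.le) hP.toIsMinPar (hP.isLoc.char2 S hc) h
  -- no over-offender on `W`
  have hno : Nat.card A * Nat.card ↥(W ⊓ centralizer (A : Set G)) ≤
      Nat.card W * Nat.card ↥(A ⊓ centralizer (W : Set G)) := by
    by_contra hcon
    have hoffW : OffM W A := ⟨hAW, hmP, (not_le.1 hcon).le⟩
    exact hcon ((hPFF ⟨A, hmS.trans hP.le, hoffW⟩).1 A (hmS.trans hP.le) hAW)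
  have hle := fM_le hWV hno
  set A₁ : Subgroup G := A ⊓ centralizer (W : Set G) with hA₁
  have hA₁V : A₁ ≤ centralizer (V : Set G) := by
    by_contra hcon
    have hmem : A₁ ∈ 𝒞 := ⟨inf_le_left.trans hAM, (S.isPGroup'.to_le hmS).to_le inf_le_left,
      elemM_mono hAE inf_le_left, hcon⟩
    have h1 := hmax A₁ hmem
    have h2 : fM V A₁ = fM V B₁ := le_antisymm h1 (hfA ▸ hle)
    have h3 := hmin A₁ ⟨hmem, h2⟩
    rw [← hcj.2] at h3
    have e4 : A₁ ⊓ centralizer (V : Set G) = A ⊓ centralizer (V : Set G) := by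
      rw [hA₁, inf_assoc, inf_eq_right.2 hCVW]
    have h4 : Nat.card A ≤ Nat.card A₁ := by
      rw [card_eq_rel V A, card_eq_rel V A₁, e4]
      exact Nat.mul_le_mul_right _ h3
    have h5 : A₁ = A := Subgroup.eq_of_le_of_card_ge inf_le_left h4
    exact hmP (inf_eq_left.1 h5)
  have hfA₁ : fM V A₁ = Nat.card V := fM_of_le hA₁V
  have hfB₁ : fM V B₁ = Nat.card V :=
    le_antisymm (hfA ▸ hfA₁ ▸ hle) (hVf₀.trans (hmax B₀ hB₀))
  have hNO : NoOverM V M := by
    intro D hD hE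
    rw [← fM_le_iff]
    by_cases hne : D ≤ centralizer (V : Set G)
    · exact (fM_of_le hne).le
    · obtain ⟨B', hB', h1⟩ := hrep D hD hE hne
      rw [← h1, ← hfB₁]
      exact hmax B' hB'
  have hfAV : fM V A = Nat.card V := hfA.trans hfB₁
  have hoffV : OffM V A := ⟨hAE, hAne, le_fM_iff.1 hfAV.ge⟩
  have hoffW : OffM W A := by
    refine ⟨hAW, hmP, ?_⟩
    have h3 := card_mul_card_le hWV (inf_le_left : V ⊓ centralizer (A : Set G) ≤ V)
    have e3 : W ⊓ (V ⊓ centralizer (A : Set G)) = W ⊓ centralizer (A : Set G) := by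
      rw [← inf_assoc, inf_eq_left.2 hWV]
    rw [e3] at h3
    have h4 := fM_mul V A
    rw [hfAV] at h4
    have e4 : A₁ = A ⊓ centralizer (V : Set G) := by
      apply le_antisymm
      · exact le_inf inf_le_left hA₁V
      · exact inf_le_inf le_rfl hCVW
    rw [← e4] at h4
    have p1 : 0 < Nat.card V := Nat.card_pos
    have h5 : Nat.card V * (Nat.card W * Nat.card A₁) ≤
        Nat.card V * (Nat.card A * Nat.card ↥(W ⊓ centralizer (A : Set G))) := by
      calc Nat.card V * (Nat.card W * Nat.card A₁) = Nat.card W * (Nat.card V * Nat.card A₁) := by ring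
        _ = Nat.card W * (Nat.card A * Nat.card ↥(V ⊓ centralizer (A : Set G))) := by rw [h4]
        _ = Nat.card A * (Nat.card W * Nat.card ↥(V ⊓ centralizer (A : Set G))) := by ring
        _ ≤ Nat.card A * (Nat.card V * Nat.card ↥(W ⊓ centralizer (A : Set G))) := Nat.mul_le_mul_left _ h3
        _ = _ := by ring
    exact Nat.le_of_mul_le_mul_left h5 p1
  exact ⟨hNO, P, hP, hPM, A, hmS, hoffV, hoffW, hA₁V, (hPFF ⟨A, hmS.trans hP.le, hoffW⟩).2⟩

end Cfsg.Agent.Omega.NOThreeL.VF
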