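import Cfsg.Agent.Mrg.Omega.NOThreeL.Basic
import Cfsg.Agent.Mrg.Omega.NO3S.Basic
import Cfsg.Agent.Mrg.Omega.Half.Basic


/-!
# NO-3L, THEOREM VF (#16966, helper597), steps (6) - (8): general part (helper924)

* `exists_conj_fix` : if `w = z^m`, `z` centralised by the Sylow 2-subgroup `S`, then `w = z^n` with
  `n⁻¹ t n ∈ S` for all `t ∈ S` which centralise `w`;
* `offM_conj` : conjugation by elements of `N_G(V)` preserves offenders on `V`;
* `le_of_conj_le` : a minimal parabolic over `S` is generated by the conjugates of `S`;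
* `false_of_fus` : (8') (helper686 #17040): `DataZ`, and every `z^m`, `m ∈ R ∈ P*(S)`, is conjugate to `z` in
  `P ∈ P*(S)`: contradiction.
-/

set_option autoImplicit false

namespace Cfsg.Agent.Omega.NOThreeL.VF

open Subgroup Cfsg Cfsg.Agent.ZN Cfsg.Agent.Omega.MinPar Cfsg.Agent.Omega.Frame Cfsg.Agent.Omega.FrameNOFF
open Cfsg.Agent.Omega.NOThreeL.Basic
open Cfsg.Agent.Omega.FFThm (OffM ElemM)
open Cfsg.Agent.MinSimple.VModule (mem_zc zc_le le_normalizer_o2 o2_isPGroup)
open scoped Pointwise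

universe u

variable {G : Type u} [Group G]

/-- a 2-subgroup of `P` is conjugate in `P` into `S` -/
theorem exists_conj_le [Finite G] (S : Sylow 2 G) {P Q : Subgroup G} (hSP : (S : Subgroup G) ≤ P)
    (hQ : IsPGroup 2 Q) (hQP : Q ≤ P) : ∃ g ∈ P, ∀ x ∈ Q, g * x * g⁻¹ ∈ (S : Subgroup G) := by
  have : Fact (Nat.Prime 2) := ⟨Nat.prime_two⟩
  have hQ' : IsPGroup 2 (Q.subgroupOf P) := hQ.comap_of_injective P.subtype P.subtype_injective
  obtain ⟨R, hR⟩ := hQ'.exists_le_sylow
  obtain ⟨g, hg⟩ := MulAction.exists_smul_eq P R (S.subtype hSP)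
  refine ⟨g, g.2, fun x hx => ?_⟩
  have h1 : (⟨x, hQP hx⟩ : P) ∈ R := hR (by rw [mem_subgroupOf]; exact hx)
  have h2 : g * ⟨x, hQP hx⟩ * g⁻¹ ∈ ((g • R : Sylow 2 P) : Subgroup P) := by
    rw [Sylow.coe_subgroup_smul, Subgroup.mem_pointwise_smul_iff_inv_smul_mem]
    have h3 : ∀ y : P, (MulAut.conj g)⁻¹ • (g * y * g⁻¹) = y := fun y => by
      rw [MulAut.smul_def, MulAut.conj_inv_apply]
      group
    rw [h3]
    exact h1
  rw [hg] at h2
  exact h2

/-- **Fixed points of `S`**: `w = z^m` is `z^n` with `n⁻¹ t n ∈ S` for all `t ∈ S` centralising `w`. -/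
theorem exists_conj_fix [Finite G] (S : Sylow 2 G) {N : Subgroup G} (hSN : (S : Subgroup G) ≤ N) {z m : G}
    (hz : ∀ s ∈ (S : Subgroup G), s * z = z * s) (hm : m ∈ N) :
    ∃ n ∈ N, n * z * n⁻¹ = m * z * m⁻¹ ∧
      ∀ t ∈ (S : Subgroup G), t * (m * z * m⁻¹) = m * z * m⁻¹ * t → n⁻¹ * t * n ∈ (S : Subgroup G) := by
  set w := m * z * m⁻¹ with hw
  set X : Subgroup G := N ⊓ centralizer {w} with hX
  have hmS : ∀ x, x ∈ ((m • S : Sylow 2 G) : Subgroup G) ↔ m⁻¹ * x * m ∈ (S : Subgroup G) := by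
    intro x
    rw [Sylow.coe_subgroup_smul, Subgroup.mem_pointwise_smul_iff_inv_smul_mem, MulAut.smul_def,
      MulAut.conj_inv_apply]
  have h1 : ((m • S : Sylow 2 G) : Subgroup G) ≤ X := by
    intro x hx
    rw [hmS] at hx
    refine ⟨?_, mem_centralizer_singleton_iff.2 ?_⟩
    · have := mul_mem (mul_mem hm (hSN hx)) (inv_mem hm)
      have e : m * (m⁻¹ * x * m) * m⁻¹ = x := by group
      rwa [e] at this
    · have h2 := hz _ hx
      calc x * w = m * ((m⁻¹ * x * m) * z) * m⁻¹ := by rw [hw]; group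
        _ = w * x := by rw [h2, hw]; group
  obtain ⟨g, hg, h2⟩ := exists_conj_le (m • S) (P := X)
    (Q := (S : Subgroup G) ⊓ centralizer {w}) h1 (S.isPGroup'.to_le inf_le_left) (inf_le_inf_right _ hSN)
  have hgw : g * w = w * g := mem_centralizer_singleton_iff.1 hg.2
  refine ⟨g⁻¹ * m, mul_mem (inv_mem hg.1) hm, ?_, fun t ht htw => ?_⟩
  · calc g⁻¹ * m * z * (g⁻¹ * m)⁻¹ = g⁻¹ * (w * g) := by rw [hw]; group
      _ = w := by rw [← hgw]; group
  · have h3 := h2 t ⟨ht, mem_centralizer_singleton_iff.2 htw⟩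
    rw [hmS] at h3
    have e : (g⁻¹ * m)⁻¹ * t * (g⁻¹ * m) = m⁻¹ * (g * t * g⁻¹) * m := by group
    rwa [e]

/-- Conjugation by `N_G(V)` preserves offenders on `V`. -/
theorem offM_conj {V A B : Subgroup G} {n : G} (hn : n ∈ normalizer (V : Set G)) (h : OffM V A)
    (hB : ∀ x, x ∈ B ↔ n * x * n⁻¹ ∈ A) : OffM V B := by
  have hV : ∀ v, v ∈ V ↔ n * v * n⁻¹ ∈ V := mem_normalizer_iff.1 hn
  have hc : ∀ x, x ∈ centralizer (V : Set G) ↔ n * x * n⁻¹ ∈ centralizer (V : Set G) := by
    intro x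
    rw [mem_centralizer_iff, mem_centralizer_iff]
    constructor
    · intro h1 v hv
      have h2 : n⁻¹ * v * n ∈ V := by
        rw [hV]
        have e : n * (n⁻¹ * v * n) * n⁻¹ = v := by group
        rwa [e]
      have h3 := h1 _ h2
      calc v * (n * x * n⁻¹) = n * ((n⁻¹ * v * n) * x) * n⁻¹ := by group
        _ = n * x * n⁻¹ * v := by rw [h3]; group
    · intro h1 v hv
      have h3 := h1 _ ((hV v).1 hv)
      have h4 := congrArg (fun y => n⁻¹ * y * n) h3
      simpa [mul_assoc] using h4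
  have cardEq : ∀ {C D : Subgroup G}, (∀ x, x ∈ D ↔ n * x * n⁻¹ ∈ C) → Nat.card D = Nat.card C := by
    intro C D hD
    refine Nat.card_congr ⟨fun x => ⟨n * x * n⁻¹, (hD x).1 x.2⟩, fun y => ⟨n⁻¹ * y * n, ?_⟩, fun x => ?_, fun y => ?_⟩
    · rw [hD]
      have e : n * (n⁻¹ * (y : G) * n) * n⁻¹ = y := by group
      rw [e]
      exact y.2
    · apply Subtype.ext
      change n⁻¹ * (n * (x : G) * n⁻¹) * n = x
      group
    · apply Subtype.ext
      change n * (n⁻¹ * (y : G) * n) * n⁻¹ = y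
      group
  refine ⟨⟨fun a ha => ?_, fun a ha b hb => ?_⟩, fun h1 => h.ne fun a ha => ?_, ?_⟩
  · rw [hc]
    have e : n * a ^ 2 * n⁻¹ = (n * a * n⁻¹) ^ 2 := by rw [pow_two, pow_two]; group
    rw [e]
    exact h.sq _ ((hB a).1 ha)
  · rw [hc]
    have e : n * (a * b * a⁻¹ * b⁻¹) * n⁻¹ =
        (n * a * n⁻¹) * (n * b * n⁻¹) * (n * a * n⁻¹)⁻¹ * (n * b * n⁻¹)⁻¹ := by group
    rw [e]
    exact h.comm _ ((hB a).1 ha) _ ((hB b).1 hb)
  · have h2 : n⁻¹ * a * n ∈ B := by
      rw [hB]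
      have e : n * (n⁻¹ * a * n) * n⁻¹ = a := by group
      rwa [e]
    have h3 := (hc _).1 (h1 h2)
    have e : n * (n⁻¹ * a * n) * n⁻¹ = a := by group
    rwa [e] at h3
  · have e1 : Nat.card B = Nat.card A := cardEq hB
    have e2 : Nat.card ↥(B ⊓ centralizer (V : Set G)) = Nat.card ↥(A ⊓ centralizer (V : Set G)) :=
      cardEq fun x => and_congr (hB x) (hc x)
    have e3 : Nat.card ↥(V ⊓ centralizer (B : Set G)) = Nat.card ↥(V ⊓ centralizer (A : Set G)) := by
      refine cardEq fun x => and_congr (hV x) ?_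
      change x ∈ centralizer (B : Set G) ↔ n * x * n⁻¹ ∈ centralizer (A : Set G)
      rw [mem_centralizer_iff, mem_centralizer_iff]
      constructor
      · intro h1 a ha
        have h2 : n⁻¹ * a * n ∈ B := by
          rw [hB]
          have e : n * (n⁻¹ * a * n) * n⁻¹ = a := by group
          rwa [e]
        have h3 := h1 _ h2
        calc a * (n * x * n⁻¹) = n * ((n⁻¹ * a * n) * x) * n⁻¹ := by group
          _ = n * x * n⁻¹ * a := by rw [h3]; group
      · intro h1 b hb
        have h3 := h1 _ ((hB b).1 hb)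
        have h4 := congrArg (fun y => n⁻¹ * y * n) h3
        simpa [mul_assoc] using h4
    rw [e1, e2, e3]
    exact h.le

/-- **A minimal parabolic over `S` is generated by the conjugates of `S`.** -/
theorem le_of_conj_le [Finite G] {S : Sylow 2 G} {R Y : Subgroup G}
    (hR : MinSimple.MinParabolic.IsMinPar (S : Subgroup G) R)
    (h : ∀ r ∈ R, ∀ s ∈ (S : Subgroup G), r * s * r⁻¹ ∈ Y) : R ≤ Y := by
  have : Fact (Nat.Prime 2) := ⟨Nat.prime_two⟩
  set N : Subgroup G := closure {x | ∃ r ∈ R, ∃ s ∈ (S : Subgroup G), x = r * s * r⁻¹} with hN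
  have hNR : N ≤ R := by
    rw [hN, closure_le]
    rintro _ ⟨r, hr, s, hs, rfl⟩
    exact mul_mem (mul_mem hr (hR.le hs)) (inv_mem hr)
  have hSN : (S : Subgroup G) ≤ N := fun s hs => subset_closure ⟨1, one_mem _, s, hs, by group⟩
  have hconj : ∀ r ∈ R, ∀ x ∈ N, r * x * r⁻¹ ∈ N := by
    intro r hr x hx
    have h1 : N ≤ N.comap (MulAut.conj r).toMonoidHom := by
      rw [hN, closure_le]
      rintro _ ⟨r', hr', s, hs, rfl⟩
      refine subset_closure ⟨r * r', mul_mem hr hr', s, hs, ?_⟩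
      change r * (r' * s * r'⁻¹) * r⁻¹ = _
      group
    exact h1 hx
  have hnorm : R ≤ normalizer (N : Set G) := by
    intro r hr
    rw [mem_normalizer_iff]
    intro x
    refine ⟨hconj r hr x, fun hx => ?_⟩
    have h1 := hconj r⁻¹ (inv_mem hr) _ hx
    have e : r⁻¹ * (r * x * r⁻¹) * r⁻¹⁻¹ = x := by group
    rwa [e] at h1
  have hNY : N ≤ Y := by
    rw [hN, closure_le]
    rintro _ ⟨r, hr, s, hs, rfl⟩
    exact h r hr s hs
  rcases hR.sup_eq_or_inf_le S.isPGroup' (MinSimple.Basic.not_dvd_relIndex S hR.le) hNR hnorm with h1 | h1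
  · rw [← h1]
    exact sup_le hNY (hSN.trans hNY)
  · exfalso
    apply hR.not_le
    have h2 : (S : Subgroup G) = (pCore 2 R).map R.subtype := by
      refine le_antisymm ((le_inf le_rfl hSN).trans h1) ?_
      have h3 : IsPGroup 2 ↥((pCore 2 R).map R.subtype) := o2_isPGroup R
      exact le_of_le_normalizer S h3 (hR.le.trans (le_normalizer_o2 R))
    rw [h2]
    exact le_normalizer_o2 R

/-- **(8')** -/
theorem false_of_fus [Finite G] {S : Sylow 2 G} (h : Ctx G) (hF : Full (S : Subgroup G))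
    (D : DataZ (S : Subgroup G)) {P : Subgroup G} (hP : IsParS (S : Subgroup G) P) {z : G}
    (hz : z ∈ zc (S : Subgroup G)) (hz1 : z ≠ 1)
    (h6 : ∀ R, IsParS (S : Subgroup G) R → ∀ m ∈ R, ∃ l ∈ P, m * z * m⁻¹ = l * z * l⁻¹) : False := by
  have hti : centralizer ({z} : Set G) ≤ normalizer (zc (S : Subgroup G) : Set G) := by
    have hS : (S : Subgroup G) ≤ centralizer ({z} : Set G) := by
      intro s hs
      rw [mem_centralizer_singleton_iff]
      exact (mem_centralizer_iff.1 (Cfsg.Agent.MinSimple.VModule.le_centralizer_zc _ hs) z hz).symm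
    refine MinSimple.MinParabolic.le_of_forall hS ?_ fun R hR hRX => ?_
    · exact inf_le_right.trans (Cfsg.Agent.MinSimple.VModule.normalizer_le_normalizer_zc _)
    · by_contra hcon
      have hz2 : z ∈ o2 R := by
        have h1 : zpowers z ≤ R := by
          rw [zpowers_le]
          exact hR.le (zc_le _ hz)
        have h2 : IsPGroup 2 (zpowers z) := S.isPGroup'.to_le ((zpowers_le).2 (zc_le _ hz))
        have h3 : R ≤ normalizer ((zpowers z : Subgroup G) : Set G) := by
          refine le_trans (fun r hr => ?_) (centralizer_le_normalizer _)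
          rw [mem_centralizer_iff]
          rintro _ ⟨k, rfl⟩
          have h4 : Commute r z := mem_centralizer_singleton_iff.1 (hRX hr)
          exact (h4.zpow_right k).eq.symm
        exact MinSimple.VModule.le_o2 h1 h2 h3 (mem_zpowers z)
      have hR1 : IsParS (S : Subgroup G) R := ⟨⟨hR, fun h0 => hz1 (by rw [h0] at hz2; exact hz2)⟩, hcon⟩
      have h2 : z ∈ zc (S : Subgroup G) ⊓ centralizer (R : Set G) := by
        refine ⟨hz, mem_centralizer_iff.2 fun r hr => ?_⟩
        exact (mem_centralizer_singleton_iff.1 (hRX hr))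
      rw [D.cz R hR1] at h2
      exact hz1 h2
  have key : ∀ R, IsParS (S : Subgroup G) R → R ≤ P ⊔ CZ (S : Subgroup G) := by
    intro R hR
    refine le_of_conj_le hR.toIsMinPar fun r hr s hs => ?_
    obtain ⟨l, hl, hlz⟩ := h6 R hR r hr
    set n := l⁻¹ * r with hn
    have h1 : n ∈ normalizer (zc (S : Subgroup G) : Set G) := by
      apply hti
      rw [mem_centralizer_singleton_iff]
      have h2 : l⁻¹ * (r * z * r⁻¹) * l = z := by rw [hlz]; group
      calc n * z = l⁻¹ * (r * z * r⁻¹) * l * (l⁻¹ * r) := by rw [hn]; group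
        _ = z * n := by rw [h2]
    have h2 : n * s * n⁻¹ ∈ CZ (S : Subgroup G) := by
      have h3 : s ∈ CZ (S : Subgroup G) := Cfsg.Agent.MinSimple.VModule.le_centralizer_zc _ hs
      rw [mem_centralizer_iff] at h3 ⊢
      intro a ha
      have h4 : n⁻¹ * a * n ∈ zc (S : Subgroup G) := by
        rw [mem_normalizer_iff.1 h1]
        have e : n * (n⁻¹ * a * n) * n⁻¹ = a := by group
        rw [e]
        exact ha
      have h5 := h3 _ h4
      calc a * (n * s * n⁻¹) = n * ((n⁻¹ * a * n) * s) * n⁻¹ := by group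
        _ = n * s * n⁻¹ * a := by rw [h5]; group
    have e : r * s * r⁻¹ = l * (n * s * n⁻¹) * l⁻¹ := by rw [hn]; group
    rw [e]
    exact mul_mem (mul_mem (mem_sup_left hl) (mem_sup_right h2)) (inv_mem (mem_sup_left hl))
  have hloc := (D.loc P hP).loc
  exact hloc.o2_ne (eq_bot_of_norm h S hF (o2_isPGroup _) (fun R hR => (key R hR).trans (le_normalizer_o2 _))
    (le_sup_right.trans (le_normalizer_o2 _)))

end Cfsg.Agent.Omega.NOThreeL.VF
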