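import Cfsg.Agent.Mrg.Omega.FrameI


/-!
# THEOREM VF (#16966, #17335), LEMMA D

`W` is an abelian 2-group of exponent 2, `M₀` normalises `W`, `V ≤ W`, `k x w = x w x⁻¹ w⁻¹`.

* `lemD` : if no subgroup of `M₀` over-offends on `W`, and `a : B → M₀` is a root group of `V` (coordinate `f`)
  which acts trivially on `W / V`, then every `d ∈ M₀` with `[V, d] = 1`, `[W, d] ≤ V` satisfies
  `f [d, w] = 0` for all `w ∈ W`.
* `comm_of` : if every such `d` centralises `W`, then `[W, x]` is centralised by `y` for `x ∈ C_{M₀}(V)` and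
  `y ∈ M₀` with `[W, y] ≤ V`.
-/

set_option autoImplicit false

namespace Cfsg.Agent.Omega.NOThreeL.VF.Q

open Subgroup Cfsg Cfsg.Agent.Omega.FFThm

universe u

variable {G : Type u} [Group G]

/-- `[x, w]` -/
def k (x w : G) : G := x * w * x⁻¹ * w⁻¹

theorem k_def (x w : G) : k x w = x * w * x⁻¹ * w⁻¹ := rfl

theorem cj_eq (x w : G) : x * w * x⁻¹ = k x w * w := by rw [k_def]; group

theorem k_eq_one {x w : G} : k x w = 1 ↔ x * w = w * x := by
  rw [k_def, mul_inv_eq_one, mul_inv_eq_iff_eq_mul]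

theorem k_one (w : G) : k 1 w = 1 := by rw [k_def]; group

theorem k_mul_left (x y w : G) : k (x * y) w = x * k y w * x⁻¹ * k x w := by
  simp only [k_def]; group

theorem k_cj (p x w : G) : k (p * x * p⁻¹) (p * w * p⁻¹) = p * k x w * p⁻¹ := by
  simp only [k_def]; group

/-- The common hypotheses. -/
structure Sit (M₀ W V : Subgroup G) : Prop where
  ab : ∀ x ∈ W, ∀ y ∈ W, x * y = y * x
  sq : ∀ x ∈ W, x * x = 1
  VW : V ≤ W
  nW : M₀ ≤ normalizer (W : Set G)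

namespace Sit

variable {M₀ W V : Subgroup G} (s : Sit M₀ W V)
include s

theorem cj_mem {x w : G} (hx : x ∈ M₀) (hw : w ∈ W) : x * w * x⁻¹ ∈ W :=
  (mem_normalizer_iff.1 (s.nW hx) w).1 hw

theorem k_mem {x w : G} (hx : x ∈ M₀) (hw : w ∈ W) : k x w ∈ W :=
  W.mul_mem (s.cj_mem hx hw) (W.inv_mem hw)

theorem k_mul_right {x v w : G} (hx : x ∈ M₀) (hv : v ∈ W) (hw : w ∈ W) :
    k x (v * w) = k x v * k x w := by
  have h1 := s.ab _ (s.k_mem hx hw) v⁻¹ (W.inv_mem hv)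
  calc k x (v * w) = x * v * x⁻¹ * (k x w * v⁻¹) := by simp only [k_def]; group
    _ = x * v * x⁻¹ * (v⁻¹ * k x w) := by rw [h1]
    _ = k x v * k x w := by rw [k_def x v]; group

omit s in
/-- `k (x y) w = k x (k y w) k y w k x w` -/
theorem k_mul {x y w : G} (_ : x ∈ M₀) (_ : y ∈ M₀) (_ : w ∈ W) :
    k (x * y) w = k x (k y w) * k y w * k x w := by
  rw [k_mul_left, cj_eq]

omit s in
/-- if `x` is trivial on `V` and `[W, y] ≤ V` then `[xy, w] = [y, w] [x, w]` -/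
theorem k_mul_of {x y w : G} (hx : x ∈ M₀) (hy : y ∈ M₀) (hw : w ∈ W) (hxV : ∀ v ∈ V, k x v = 1)
    (hyW : k y w ∈ V) : k (x * y) w = k y w * k x w := by
  rw [k_mul hx hy hw, hxV _ hyW, one_mul]

/-- `[a d a⁻¹ d⁻¹, w] = [a, [d, w]]` for `a, d` trivial on `W / V`, `d` trivial on `V`. -/
theorem k_comm {a d w : G} (ha : a ∈ M₀) (hd : d ∈ M₀) (hw : w ∈ W) (hdV : ∀ v ∈ V, k d v = 1)
    (haW : ∀ w ∈ W, k a w ∈ V) (hdW : ∀ w ∈ W, k d w ∈ V) :
    k (a * d * a⁻¹ * d⁻¹) w = k a (k d w) := by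
  obtain ⟨w', hw', rfl⟩ : ∃ w' ∈ W, w = d * a * w' * (d * a)⁻¹ :=
    ⟨(d * a)⁻¹ * w * (d * a), by
      have h := s.cj_mem (M₀.inv_mem (M₀.mul_mem hd ha)) hw
      simpa using h, by group⟩
  -- `w = [a, w'] [d, w'] w'`
  have e1 : d * a * w' * (d * a)⁻¹ = k a w' * (k d w' * w') := by
    rw [cj_eq, k_mul hd ha hw', hdV _ (haW _ hw'), one_mul, mul_assoc]
  have e2 : a * d * w' * (a * d)⁻¹ = k a (k d w') * (k d w' * (k a w' * w')) := by
    rw [cj_eq, k_mul ha hd hw', mul_assoc, mul_assoc]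
  have e3 : a * d * a⁻¹ * d⁻¹ * (d * a * w' * (d * a)⁻¹) * (a * d * a⁻¹ * d⁻¹)⁻¹ =
      a * d * w' * (a * d)⁻¹ := by group
  have e4 : k d (k a w' * (k d w' * w')) = k d w' := by
    rw [s.k_mul_right hd (s.VW (haW _ hw')) (W.mul_mem (s.VW (hdW _ hw')) hw'), hdV _ (haW _ hw'),
      one_mul, s.k_mul_right hd (s.VW (hdW _ hw')) hw', hdV _ (hdW _ hw'), one_mul]
  rw [k_def (a * d * a⁻¹ * d⁻¹), e3, e1, e4, e2]
  have h1 : k d w' * (k a w' * w') = k a w' * (k d w' * w') := by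
    rw [← mul_assoc, ← mul_assoc, s.ab _ (s.k_mem hd hw') _ (s.k_mem ha hw')]
  rw [h1, mul_inv_cancel_right]

/-- `[W, x]` is centralised by `y` if `[x, y]` centralises `W`. -/
theorem comm_of {x y w : G} (hx : x ∈ M₀) (hy : y ∈ M₀) (hw : w ∈ W) (hxV : ∀ v ∈ V, k x v = 1)
    (hyW : ∀ w ∈ W, k y w ∈ V) (hc : ∀ w ∈ W, k (y * x * y⁻¹ * x⁻¹) w = 1) : k y (k x w) = 1 := by
  have h1 : y * x * w * (y * x)⁻¹ = x * y * w * (x * y)⁻¹ := by
    have h2 := hc (x * y * w * (x * y)⁻¹) (s.cj_mem (M₀.mul_mem hx hy) hw)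
    rw [k_def, mul_inv_eq_one] at h2
    rw [← h2]; group
  have h2 : y * k x w * y⁻¹ = k x (y * w * y⁻¹) := by
    calc y * k x w * y⁻¹ = y * x * w * (y * x)⁻¹ * (y * w * y⁻¹)⁻¹ := by rw [k_def]; group
      _ = x * y * w * (x * y)⁻¹ * (y * w * y⁻¹)⁻¹ := by rw [h1]
      _ = k x (y * w * y⁻¹) := by rw [k_def]; group
  rw [k_def, h2, cj_eq, s.k_mul_right hx (s.k_mem hy hw) hw, hxV _ (hyW _ hw), one_mul,
    mul_inv_cancel]

/-- Two elements of `M₀` which are trivial on `V` and on `W / V` commute on `W`, their squares are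
trivial on `W`. -/
theorem elemM {E : Subgroup G} (hE : E ≤ M₀) (h1 : ∀ x ∈ E, ∀ w ∈ W, k x w ∈ V)
    (h2 : ∀ x ∈ E, ∀ v ∈ V, k x v = 1) : ElemM W E where
  sq x hx := by
    rw [mem_centralizer_iff]
    intro w hw
    have h3 : k (x * x) w = 1 := by
      rw [k_mul_of (hE hx) (hE hx) hw (h2 x hx) (h1 x hx w hw)]
      exact s.sq _ (s.k_mem (hE hx) hw)
    rw [pow_two]
    exact (k_eq_one.1 h3).symm
  comm x hx y hy := by
    rw [mem_centralizer_iff]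
    intro w hw
    have h3 : k (x * y * x⁻¹ * y⁻¹) w = 1 := by
      rw [s.k_comm (hE hx) (hE hy) hw (h2 y hy) (h1 x hx) (h1 y hy)]
      exact h2 x hx _ (h1 y hy w hw)
    exact (k_eq_one.1 h3).symm

end Sit

/-! ### LEMMA D -/

/-- The group of all `x ∈ M₀` which act on `W` as `w ↦ β b [d, w] γ c [d, w]`. -/
def EE {M₀ W V : Subgroup G} (s : Sit M₀ W V) {B : Type*} [AddGroup B] (β γ : B → G → G) (d : G)
    (h1 : ∀ b b', ∀ v ∈ V, β (b + b') v = β b v * β b' v)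
    (h2 : ∀ b b', ∀ v ∈ V, γ (b + b') v = γ b v * γ b' v)
    (hβ : ∀ b, ∀ v ∈ V, β b v ∈ V) (hγ : ∀ b, ∀ v ∈ V, γ b v ∈ V)
    (hβ' : ∀ b, β b 1 = 1) (hγ' : ∀ b, γ b 1 = 1)
    (hdV : ∀ v ∈ V, k d v = 1) (hdW : ∀ w ∈ W, k d w ∈ V) : Subgroup G where
  carrier := {x | x ∈ M₀ ∧ ∃ b c : B, ∀ w ∈ W, k x w = β b (k d w) * γ c (k d w)}
  one_mem' := by
    refine ⟨M₀.one_mem, 0, 0, fun w hw => ?_⟩
    have e1 : β 0 (k d w) = 1 := by
      have := h1 0 0 _ (hdW w hw)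
      rw [add_zero] at this
      exact left_eq_mul.1 this
    have e2 : γ 0 (k d w) = 1 := by
      have := h2 0 0 _ (hdW w hw)
      rw [add_zero] at this
      exact left_eq_mul.1 this
    rw [k_one, e1, e2, mul_one]
  mul_mem' := by
    rintro x y ⟨hx, b, c, hx1⟩ ⟨hy, b', c', hy1⟩
    refine ⟨M₀.mul_mem hx hy, b' + b, c' + c, fun w hw => ?_⟩
    have hv := hdW w hw
    have hyV : k y w ∈ V := by
      rw [hy1 w hw]
      exact V.mul_mem (hβ _ _ hv) (hγ _ _ hv)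
    have hxV : ∀ v ∈ V, k x v = 1 := fun v hv => by
      rw [hx1 v (s.VW hv), hdV v hv, hβ', hγ', mul_one]
    rw [Sit.k_mul_of hx hy hw hxV hyV, hx1 w hw, hy1 w hw, h1 _ _ _ hv, h2 _ _ _ hv, mul_assoc,
      ← mul_assoc (γ c' (k d w)), s.ab _ (s.VW (hγ c' _ hv)) _ (s.VW (hβ b _ hv))]
    simp only [mul_assoc]
  inv_mem' := by
    rintro x ⟨hx, b, c, hx1⟩
    refine ⟨M₀.inv_mem hx, -b, -c, fun w hw => ?_⟩
    have hv := hdW w hw
    have hxV : ∀ v ∈ V, k x v = 1 := fun v hv => by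
      rw [hx1 v (s.VW hv), hdV v hv, hβ', hγ', mul_one]
    have hkV : k x w ∈ V := by
      rw [hx1 w hw]
      exact V.mul_mem (hβ _ _ hv) (hγ _ _ hv)
    -- `[x⁻¹, w] = [x, w]⁻¹`
    have e0 : x * w * x⁻¹ = k x w * w := cj_eq x w
    have e1 : k x⁻¹ w = (k x w)⁻¹ := by
      have e2 : x * k x w = k x w * x := k_eq_one.1 (hxV _ hkV)
      have e3 : x⁻¹ * w * x = (k x w)⁻¹ * w := by
        have e4 : x * ((k x w)⁻¹ * w) * x⁻¹ = w := by
          have e5 : x * (k x w)⁻¹ = (k x w)⁻¹ * x := by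
            have e6 : Commute x (k x w) := e2
            exact e6.inv_right
          calc x * ((k x w)⁻¹ * w) * x⁻¹ = x * (k x w)⁻¹ * (w * x⁻¹) := by group
            _ = (k x w)⁻¹ * x * (w * x⁻¹) := by rw [e5]
            _ = (k x w)⁻¹ * (x * w * x⁻¹) := by group
            _ = w := by rw [e0]; group
        calc x⁻¹ * w * x = x⁻¹ * (x * ((k x w)⁻¹ * w) * x⁻¹) * x := by rw [e4]
          _ = (k x w)⁻¹ * w := by group
      rw [k_def, inv_inv, e3, mul_inv_cancel_right]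
    have e2 : β (-b) (k d w) = (β b (k d w))⁻¹ := by
      have h3 := h1 b (-b) _ hv
      have h4 := h1 0 0 _ hv
      rw [add_zero] at h4
      rw [add_neg_cancel, left_eq_mul.1 h4] at h3
      exact eq_inv_of_mul_eq_one_right h3.symm
    have e3 : γ (-c) (k d w) = (γ c (k d w))⁻¹ := by
      have h3 := h2 c (-c) _ hv
      have h4 := h2 0 0 _ hv
      rw [add_zero] at h4
      rw [add_neg_cancel, left_eq_mul.1 h4] at h3
      exact eq_inv_of_mul_eq_one_right h3.symm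
    rw [e1, hx1 w hw, e2, e3, mul_inv_rev]
    exact s.ab _ (W.inv_mem (s.VW (hγ c _ hv))) _ (W.inv_mem (s.VW (hβ b _ hv)))

/-- A root group of `V` with coordinate `f`, acting trivially on `W / V`, and an element `l`, trivial on
`W / V`, which moves its centre. -/
structure RootM (M₀ W V : Subgroup G) (B : Type*) [AddGroup B] (a : B → G) (l : G) (f : G → B) : Prop where
  mem : ∀ b, a b ∈ M₀
  aW : ∀ b, ∀ w ∈ W, k (a b) w ∈ V
  lM : l ∈ M₀
  lW : ∀ w ∈ W, k l w ∈ V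
  f_mul : ∀ u ∈ V, ∀ v ∈ V, f (u * v) = f u + f v
  add : ∀ b b', ∀ v ∈ V, k (a (b + b')) v = k (a b) v * k (a b') v
  zero : ∀ v ∈ V, f v = 0 → ∀ b, k (a b) v = 1
  inj : ∀ b, b ≠ 0 → ∀ v ∈ V, k (a b) v = 1 → f v = 0
  disj : ∀ b c, ∀ v ∈ V, ∀ v' ∈ V, k (a b) v = l * k (a c) v' * l⁻¹ → k (a b) v = 1

/-- **LEMMA D.** -/
theorem lemD [Finite G] {M₀ W V : Subgroup G} (s : Sit M₀ W V) (no : NoOverM W M₀) {B : Type*}
    [AddGroup B] [Finite B] (hB : 1 < Nat.card B) {a : B → G} {l : G} {f : G → B}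
    (R : RootM M₀ W V B a l f) {d : G} (hd : d ∈ M₀) (hdV : ∀ v ∈ V, k d v = 1)
    (hdW : ∀ w ∈ W, k d w ∈ V) {w₀ : G} (hw₀ : w₀ ∈ W) : f (k d w₀) = 0 := by
  by_contra hne
  have k_one_right : ∀ x : G, k x 1 = 1 := fun x => by rw [k_def]; group
  have hγV : ∀ c, ∀ v ∈ V, l * k (a c) v * l⁻¹ ∈ V := fun c v hv => by
    rw [cj_eq]
    exact V.mul_mem (R.lW _ (s.VW (R.aW c v (s.VW hv)))) (R.aW c v (s.VW hv))
  have hγadd : ∀ b b', ∀ v ∈ V, l * k (a (b + b')) v * l⁻¹ = l * k (a b) v * l⁻¹ * (l * k (a b') v * l⁻¹) :=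
    fun b b' v hv => by rw [R.add b b' v hv]; group
  let E : Subgroup G := EE s (fun b v => k (a b) v) (fun c v => l * k (a c) v * l⁻¹) d R.add hγadd
    (fun b v hv => R.aW b v (s.VW hv)) hγV (fun b => k_one_right _)
    (fun b => by rw [k_one_right]; group) hdV hdW
  have hEM : E ≤ M₀ := fun x hx => hx.1
  have hEV : ∀ x ∈ E, ∀ w ∈ W, k x w ∈ V := by
    rintro x ⟨hx, b, c, h⟩ w hw
    rw [h w hw]
    exact V.mul_mem (R.aW b _ (s.VW (hdW w hw))) (hγV c _ (hdW w hw))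
  have hE1 : ∀ x ∈ E, ∀ v ∈ V, k x v = 1 := by
    rintro x ⟨hx, b, c, h⟩ v hv
    rw [h v (s.VW hv), hdV v hv]
    simp only [k_one_right]
    group
  -- the elements
  have hx1 : ∀ b, ∀ w ∈ W, k (a b * d * (a b)⁻¹ * d⁻¹) w = k (a b) (k d w) := fun b w hw =>
    s.k_comm (R.mem b) hd hw hdV (R.aW b) hdW
  have hm1 : ∀ b, a b * d * (a b)⁻¹ * d⁻¹ ∈ M₀ := fun b =>
    M₀.mul_mem (M₀.mul_mem (M₀.mul_mem (R.mem b) hd) (M₀.inv_mem (R.mem b))) (M₀.inv_mem hd)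
  have hx2 : ∀ c, ∀ w ∈ W, k (l * (a c * d * (a c)⁻¹ * d⁻¹) * l⁻¹) w = l * k (a c) (k d w) * l⁻¹ := by
    intro c w hw
    have hw' : l⁻¹ * w * l ∈ W := by simpa using s.cj_mem (M₀.inv_mem R.lM) hw
    have e1 : w = l * (l⁻¹ * w * l) * l⁻¹ := by group
    have e2 : k (l * (a c * d * (a c)⁻¹ * d⁻¹) * l⁻¹) w =
        l * k (a c * d * (a c)⁻¹ * d⁻¹) (l⁻¹ * w * l) * l⁻¹ := by
      rw [← k_cj, ← e1]
    have e3 : k l (l⁻¹ * w * l) ∈ V := R.lW _ hw'
    have e4 : k d w = k d (l⁻¹ * w * l) := by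
      have e5 : w = k l (l⁻¹ * w * l) * (l⁻¹ * w * l) := by rw [k_def]; group
      conv_lhs => rw [e5]
      rw [s.k_mul_right hd (s.VW e3) hw', hdV _ e3, one_mul]
    rw [e2, hx1 c _ hw', e4]
  have hm2 : ∀ c, l * (a c * d * (a c)⁻¹ * d⁻¹) * l⁻¹ ∈ M₀ := fun c =>
    M₀.mul_mem (M₀.mul_mem R.lM (hm1 c)) (M₀.inv_mem R.lM)
  have hx3 : ∀ b c, ∀ w ∈ W, k ((a b * d * (a b)⁻¹ * d⁻¹) * (l * (a c * d * (a c)⁻¹ * d⁻¹) * l⁻¹)) w =
      k (a b) (k d w) * (l * k (a c) (k d w) * l⁻¹) := by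
    intro b c w hw
    have h1 : ∀ v ∈ V, k (a b * d * (a b)⁻¹ * d⁻¹) v = 1 := fun v hv => by
      rw [hx1 b v (s.VW hv), hdV v hv, k_one_right]
    have h2 : k (l * (a c * d * (a c)⁻¹ * d⁻¹) * l⁻¹) w ∈ V := by
      rw [hx2 c w hw]; exact hγV c _ (hdW w hw)
    rw [Sit.k_mul_of (hm1 b) (hm2 c) hw h1 h2, hx1 b w hw, hx2 c w hw]
    exact s.ab _ (s.VW (hγV c _ (hdW w hw))) _ (s.VW (R.aW b _ (s.VW (hdW w hw))))
  have hmE : ∀ b c, (a b * d * (a b)⁻¹ * d⁻¹) * (l * (a c * d * (a c)⁻¹ * d⁻¹) * l⁻¹) ∈ E := fun b c =>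
    ⟨M₀.mul_mem (hm1 b) (hm2 c), b, c, hx3 b c⟩
  -- `|E : C_E(W)| ≥ |B|²`
  have hv : k d w₀ ∈ V := hdW w₀ hw₀
  have hsub : ∀ b b', k (a b) (k d w₀) = k (a (b - b')) (k d w₀) * k (a b') (k d w₀) := fun b b' => by
    rw [← R.add _ _ _ hv, sub_add_cancel]
  have hb0 : ∀ b, k (a b) (k d w₀) = 1 → b = 0 := fun b h => by
    by_contra hb
    exact hne (R.inj b hb _ hv h)
  have hI : Nat.card B * Nat.card B ≤ (centralizer (W : Set G)).relIndex E := by
    let φ : B × B → E ⧸ (centralizer (W : Set G)).subgroupOf E := fun p =>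
      QuotientGroup.mk (⟨_, hmE p.1 p.2⟩ : E)
    have hφ : Function.Injective φ := by
      rintro ⟨b, c⟩ ⟨b', c'⟩ h
      have h1 := QuotientGroup.eq.1 h
      have h2 : ((a b * d * (a b)⁻¹ * d⁻¹) * (l * (a c * d * (a c)⁻¹ * d⁻¹) * l⁻¹))⁻¹ *
          ((a b' * d * (a b')⁻¹ * d⁻¹) * (l * (a c' * d * (a c')⁻¹ * d⁻¹) * l⁻¹)) ∈
          centralizer (W : Set G) := h1
      generalize hX : (a b * d * (a b)⁻¹ * d⁻¹) * (l * (a c * d * (a c)⁻¹ * d⁻¹) * l⁻¹) = X at h2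
      generalize hY : (a b' * d * (a b')⁻¹ * d⁻¹) * (l * (a c' * d * (a c')⁻¹ * d⁻¹) * l⁻¹) = Y at h2
      have h3 : k X w₀ = k Y w₀ := by
        have h4 := mem_centralizer_iff.1 h2 w₀ hw₀
        have h5 : X * w₀ * X⁻¹ = Y * w₀ * Y⁻¹ := by
          calc X * w₀ * X⁻¹ = X * (w₀ * (X⁻¹ * Y)) * Y⁻¹ := by group
            _ = X * (X⁻¹ * Y * w₀) * Y⁻¹ := by rw [h4]
            _ = Y * w₀ * Y⁻¹ := by group
        rw [k_def, k_def, h5]
      rw [← hX, ← hY, hx3 b c w₀ hw₀, hx3 b' c' w₀ hw₀, hsub b b'] at h3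
      have h6 : k (a (b - b')) (k d w₀) = l * k (a (c' - c)) (k d w₀) * l⁻¹ := by
        have m1 : k (a (b - b')) (k d w₀) ∈ W := s.VW (R.aW _ _ (s.VW hv))
        have m2 : k (a b') (k d w₀) ∈ W := s.VW (R.aW _ _ (s.VW hv))
        have h7 : l * k (a c') (k d w₀) * l⁻¹ = l * k (a (c' - c)) (k d w₀) * l⁻¹ *
            (l * k (a c) (k d w₀) * l⁻¹) := by
          rw [hsub c' c]; group
        rw [h7, s.ab _ m1 _ m2] at h3
        generalize l * k (a c) (k d w₀) * l⁻¹ = C at h3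
        rw [mul_assoc] at h3
        exact mul_right_cancel (mul_left_cancel h3)
      have h9 := hb0 _ (R.disj _ _ _ hv _ hv h6)
      have h10 : k (a (c' - c)) (k d w₀) = 1 := by
        rw [h9] at h6
        have h11 : k (a 0) (k d w₀) = 1 := by
          have := R.add 0 0 _ hv
          rw [add_zero] at this
          exact left_eq_mul.1 this
        rw [h11] at h6
        have h12 : k (a (c' - c)) (k d w₀) = l⁻¹ * (l * k (a (c' - c)) (k d w₀) * l⁻¹) * l := by group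
        rw [h12, ← h6]; group
      have h13 := hb0 _ h10
      rw [sub_eq_zero.1 h9, sub_eq_zero.1 h13]
    have h1 := Nat.card_le_card_of_injective φ hφ
    rw [Nat.card_prod] at h1
    exact h1
  -- `|W : C_W(E)| ≤ |B|`
  have hII : (centralizer (E : Set G)).relIndex W ≤ Nat.card B := by
    let θ : ↥W →* Multiplicative B :=
      { toFun := fun w => Multiplicative.ofAdd (f (k d w))
        map_one' := by
          have h1 : f 1 = 0 := by
            have := R.f_mul 1 V.one_mem 1 V.one_mem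
            rw [mul_one] at this
            exact left_eq_add.1 this
          change Multiplicative.ofAdd (f (k d 1)) = 1
          rw [k_one_right, h1]; rfl
        map_mul' := fun x y => by
          change Multiplicative.ofAdd (f (k d (x * y))) = _
          rw [s.k_mul_right hd x.2 y.2, R.f_mul _ (hdW _ x.2) _ (hdW _ y.2)]; rfl }
    have h1 : θ.ker ≤ (centralizer (E : Set G)).subgroupOf W := by
      intro w hw
      rw [MonoidHom.mem_ker] at hw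
      have hw' : f (k d w) = 0 := hw
      rw [mem_subgroupOf, mem_centralizer_iff]
      rintro x ⟨hx, b, c, h⟩
      have h2 : k x (w : G) = 1 := by
        rw [h w w.2]
        simp only [R.zero _ (hdW _ w.2) hw']
        group
      exact k_eq_one.1 h2
    have h2 : (centralizer (E : Set G)).relIndex W ≤ θ.ker.index :=
      Nat.le_of_dvd (Nat.pos_of_ne_zero θ.ker.index_ne_zero_of_finite) (index_dvd_of_le h1)
    refine h2.trans ?_
    rw [index_ker]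
    exact Nat.card_le_card_of_injective _ Subtype.val_injective
  have hIII : (centralizer (W : Set G)).relIndex E ≤ (centralizer (E : Set G)).relIndex W :=
    relIndex_le_iff.1 (no E hEM (s.elemM hEM hEV hE1))
  have h4 := hI.trans (hIII.trans hII)
  nlinarith

end Cfsg.Agent.Omega.NOThreeL.VF.Q
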